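import Cfsg.Prelude.Def_Blocks
import Cfsg.Agent.H13.Clifford
import Cfsg.Agent.H12.Transport
import Cfsg.Agent.H18.SylowSymmetric
import Mathlib.Analysis.SpecialFunctions.Complex.CircleAddChar
import Mathlib.GroupTheory.SpecificGroups.Alternating
import Mathlib.GroupTheory.Sylow

/-!
# A Sylow `p`-subgroup of `A_{pw}` has an irreducible character of degree `p`
-/

set_option autoImplicit false
set_option linter.unusedSectionVars false
set_option linter.style.haveILetI false

open Cfsg Equiv

namespace H25.AltHeight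

universe u v

/-- `G` has an irreducible character of degree `d`. -/
def HasDeg (d : ℕ) (G : Type u) [Group G] : Prop :=
  ∃ φ : IrrCharacter G, charDegree (φ : G → ℂ) = d

theorem HasDeg.of_surjective {d : ℕ} {G : Type u} [Group G] {K : Type v} [Group K]
    (h : HasDeg d G) {f : K →* G} (hf : Function.Surjective f) : HasDeg d K := by
  obtain ⟨φ, hφ⟩ := h
  exact ⟨⟨_, H12.IsIrrCharacter.comp_surjective φ.2 hf⟩, by simpa [charDegree] using hφ⟩

theorem HasDeg.of_mulEquiv {d : ℕ} {G : Type u} [Group G] {K : Type v} [Group K]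
    (h : HasDeg d G) (e : K ≃* G) : HasDeg d K :=
  h.of_surjective (f := e.toMonoidHom) e.surjective

/-- A linear character of a normal subgroup of prime index that is moved gives degree `p`. -/
theorem hasDeg_of_linear {Q : Type u} [Group Q] [Finite Q] {p : ℕ} [Fact p.Prime]
    (H : Subgroup Q) [hN : H.Normal] (hH : H.index = p) (f : H →* ℂˣ) (γ : Q) (h : H)
    (hne : f ⟨γ * h * γ⁻¹, hN.conj_mem h h.2 γ⟩ ≠ f h) : HasDeg p Q := by
  classical
  haveI := Fintype.ofFinite Q
  set θ : H → ℂ := fun x => (f x : ℂ) with hθdef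
  have hθ : IsIrrCharacter H θ := H12.isIrrCharacter_monoidHom f
  have hγ : γ ∉ H13.inertia H θ := by
    intro hmem
    have := congrFun (H13.mem_inertia H |>.1 hmem) h
    rw [H13.twist_apply] at this
    exact hne (Units.ext this)
  have hle : H13.inertia H θ ≤ H := by
    have hHI : H ≤ H13.inertia H θ := H13.le_inertia H
      (H12.IsCharacter.isClassFunction (H12.isCharacter_of_isIrrCharacter hθ))
    have hdvd : (H13.inertia H θ).index ∣ p := hH ▸ Subgroup.index_dvd_of_le hHI
    rcases (Nat.dvd_prime Fact.out).1 hdvd with h1 | h1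
    · exact absurd (Subgroup.index_eq_one.1 h1 ▸ Subgroup.mem_top γ) hγ
    · have h2 := Subgroup.relIndex_mul_index hHI
      rw [h1, hH] at h2
      have h3 : H.relIndex (H13.inertia H θ) = 1 :=
        mul_right_cancel₀ (Nat.Prime.ne_zero Fact.out) (h2.trans (one_mul p).symm)
      exact Subgroup.relIndex_eq_one.1 h3
  refine ⟨⟨_, H13.isIrrCharacter_indFun_of_inertia H hθ hle⟩, ?_⟩
  show charDegree (indFun H θ) = p
  rw [charDegree, H13.indFun_apply_one, hH]
  simp [θ]

/-- A faithful linear character of `ZMod p`. -/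
noncomputable def zeta (p : ℕ) [Fact p.Prime] : Multiplicative (ZMod p) →* ℂˣ :=
  (ZMod.stdAddChar (N := p)).toMonoidHom.toHomUnits

theorem zeta_one_ne {p : ℕ} [Fact p.Prime] :
    zeta p (Multiplicative.ofAdd 1) ≠ zeta p (Multiplicative.ofAdd 0) := by
  intro h
  have h1 : ZMod.stdAddChar (1 : ZMod p) = ZMod.stdAddChar (0 : ZMod p) := congrArg Units.val h
  exact one_ne_zero (ZMod.injective_stdAddChar h1)

section Wreath

variable {p : ℕ} {A : Type*} {T : Subgroup (Perm A)}

theorem wreath_apply {g : Perm (A × ZMod p)} (hg : g ∈ H18.wreathSubgroup p T) :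
    ∃ h : T, ∀ a t, g (a, t) = ((h : Perm A) a, t + (g (a, 0)).2) := by
  obtain ⟨f, h, hh, rfl⟩ := hg
  exact ⟨⟨h, hh⟩, fun a t => by simp [H18.shiftPerm, H18.liftPerm]⟩

variable (E : Subgroup (Perm (A × ZMod p))) (hE : E ≤ H18.wreathSubgroup p T)

/-- The permutation of the first coordinate. -/
noncomputable def proj : E →* T :=
  MonoidHom.mk' (fun g => (wreath_apply (hE g.2)).choose) fun g g' => Subtype.ext <| Equiv.ext fun a => by
    refine (congrArg Prod.fst ((wreath_apply (hE (g * g').2)).choose_spec a 0)).symm.trans ?_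
    change ((g : Perm (A × ZMod p)) ((g' : Perm (A × ZMod p)) (a, 0))).1 = _
    rw [(wreath_apply (hE g'.2)).choose_spec a 0]
    exact congrArg Prod.fst ((wreath_apply (hE g.2)).choose_spec _ _)

theorem apply_eq (g : E) (a : A) (t : ZMod p) :
    (g : Perm (A × ZMod p)) (a, t) =
      ((proj E hE g : Perm A) a, t + ((g : Perm (A × ZMod p)) (a, 0)).2) :=
  (wreath_apply (hE g.2)).choose_spec a t

variable (hlift : ∀ t ∈ T, (H18.liftPerm t : Perm (A × ZMod p)) ∈ E)

theorem proj_lift (t : T) : proj E hE ⟨_, hlift t t.2⟩ = t := by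
  refine Subtype.ext (Equiv.ext fun a => ?_)
  have h := apply_eq E hE ⟨_, hlift t t.2⟩ a 0
  exact (congrArg Prod.fst h).symm

theorem proj_surjective (hlift : ∀ t ∈ T, (H18.liftPerm t : Perm (A × ZMod p)) ∈ E) :
    Function.Surjective (proj E hE) := fun t => ⟨_, proj_lift E hE hlift t⟩

end Wreath

/-- The main construction. -/
theorem hasDeg_wreath {p : ℕ} [Fact p.Prime] {A : Type*} [Fintype A] {T : Subgroup (Perm A)}
    (hT : IsPGroup p T) (E : Subgroup (Perm (A × ZMod p))) (hE : E ≤ H18.wreathSubgroup p T)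
    (hlift : ∀ t ∈ T, (H18.liftPerm t : Perm (A × ZMod p)) ∈ E) {x : A} {t₀ : T}
    (hx : (t₀ : Perm A) x ≠ x) (f₀ : A → ZMod p) (hf₀ : H18.shiftPerm f₀ ∈ E) (hfx : f₀ x = 1)
    (hfix : ∀ a, a ≠ x → f₀ a ≠ 0 → ∀ t : T, (t : Perm A) a = a) : HasDeg p E := by
  classical
  have hp : p.Prime := Fact.out
  -- a subgroup of index p containing the stabiliser
  set S : Subgroup T := MulAction.stabilizer T x with hS
  have hmemS : ∀ t : T, t ∈ S ↔ (t : Perm A) x = x := fun t => Iff.rfl
  obtain ⟨k, hk⟩ := IsPGroup.iff_card.1 (hT.to_subgroup S)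
  obtain ⟨n, hn⟩ := IsPGroup.iff_card.1 hT
  have hkn : k < n := by
    have hlt : Nat.card S < Nat.card T := by
      refine lt_of_le_of_ne (Subgroup.card_le_card_group S) fun h => hx ?_
      exact (hmemS t₀).1 (Subgroup.eq_top_of_card_eq S h ▸ Subgroup.mem_top t₀)
    rw [hk, hn] at hlt
    exact (Nat.pow_lt_pow_iff_right hp.one_lt).1 hlt
  obtain ⟨M, hM, hSM⟩ := Sylow.exists_subgroup_card_pow_prime_le (G := T) p
    (show p ^ (n - 1) ∣ Nat.card T by rw [hn]; exact Nat.pow_dvd_pow p (by omega)) S hk (by omega)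
  have hMi : M.index = p := by
    have h := M.card_mul_index
    rw [hM, hn] at h
    have h' : p ^ (n - 1) * M.index = p ^ (n - 1) * p := by
      rw [h, ← pow_succ]; congr 1; omega
    exact Nat.eq_of_mul_eq_mul_left (pow_pos hp.pos _) h'
  haveI : M.Normal := by
    refine Subgroup.normal_of_index_eq_minFac_card ?_
    rw [hMi, hn, hp.pow_minFac (by omega)]
  set π := proj E hE with hπ
  set H : Subgroup E := M.comap π with hH
  have hHi : H.index = p := by
    rw [hH, Subgroup.index_comap_of_surjective M (proj_surjective E hE hlift), hMi]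
  haveI : H.Normal := Subgroup.Normal.comap inferInstance π
  set O : Finset A := Finset.univ.filter (fun a => ∃ m ∈ M, (m : Perm A) x = a) with hO
  have hmemO : ∀ a, a ∈ O ↔ ∃ m ∈ M, (m : Perm A) x = a := fun a => by simp [hO]
  have hinv : ∀ m ∈ M, ∀ a, (m : Perm A) a ∈ O ↔ a ∈ O := by
    intro m hm a
    simp only [hmemO]
    constructor
    · rintro ⟨m', hm', h⟩
      exact ⟨m⁻¹ * m', M.mul_mem (M.inv_mem hm) hm', by simp [h]⟩
    · rintro ⟨m', hm', rfl⟩
      exact ⟨m * m', M.mul_mem hm hm', rfl⟩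
  let val : Perm (A × ZMod p) → ZMod p := fun g => ∑ a ∈ O, (g (a, 0)).2
  have hval : ∀ g g' : H, val ((g * g' : H) : E) = val (g : E) + val (g' : E) := by
    intro g g'
    have hm' : π g' ∈ M := g'.2
    have h1 : ∀ a, ((((g * g' : H) : E) : Perm (A × ZMod p)) (a, 0)).2 =
        (((g' : E) : Perm (A × ZMod p)) (a, 0)).2 +
          (((g : E) : Perm (A × ZMod p)) ((π g' : Perm A) a, 0)).2 := by
      intro a
      rw [Subgroup.coe_mul, Subgroup.coe_mul, Perm.mul_apply, apply_eq E hE g' a 0,
        apply_eq E hE g _ _]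
    simp only [val]
    rw [Finset.sum_congr rfl fun a _ => h1 a, Finset.sum_add_distrib, add_comm]
    congr 1
    exact Finset.sum_equiv (π g' : Perm A) (fun a => (hinv _ hm' a).symm) fun a _ => rfl
  let f : H →* ℂˣ := (zeta p).comp
    (MonoidHom.mk' (fun g : H => Multiplicative.ofAdd (val ((g : E) : Perm (A × ZMod p))))
      fun g g' => by rw [hval, ofAdd_add])
  have hproj : π ⟨_, hf₀⟩ = 1 := by
    refine Subtype.ext (Equiv.ext fun a => ?_)
    have h := apply_eq E hE ⟨_, hf₀⟩ a 0
    exact (congrArg Prod.fst h).symm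
  set h₀ : H := ⟨⟨_, hf₀⟩, by rw [hH, Subgroup.mem_comap, hproj]; exact M.one_mem⟩ with hh₀
  obtain ⟨t, ht⟩ : ∃ t : T, t ∉ M := by
    by_contra h
    simp only [not_exists, not_not] at h
    have : M = ⊤ := (Subgroup.eq_top_iff' M).2 h
    rw [this, Subgroup.index_top] at hMi
    exact hp.one_lt.ne' hMi.symm
  have hxO : x ∈ O := (hmemO x).2 ⟨1, M.one_mem, rfl⟩
  have hmoved : ∀ a ∈ O, ¬ ∀ s : T, (s : Perm A) a = a := by
    intro a ha hall
    obtain ⟨m, hm, rfl⟩ := (hmemO a).1 ha
    have h1 : (m : Perm A) x = x := by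
      have := hall m⁻¹
      simpa using this.symm
    exact hx (by simpa [h1] using hall t₀)
  refine hasDeg_of_linear H hHi f ⟨_, hlift t t.2⟩ h₀ ?_
  have e1 : val ((h₀ : E) : Perm (A × ZMod p)) = 1 := by
    show ∑ a ∈ O, (H18.shiftPerm f₀ (a, (0 : ZMod p))).2 = 1
    rw [Finset.sum_eq_single x]
    · simp [H18.shiftPerm, hfx]
    · intro a ha hax
      have : f₀ a = 0 := by
        by_contra h
        exact hmoved a ha (hfix a hax h)
      simp [H18.shiftPerm, this]
    · exact fun h => absurd hxO h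
  have e2 : val (H18.liftPerm (t : Perm A) * H18.shiftPerm f₀ * (H18.liftPerm (t : Perm A))⁻¹) = 0 := by
    rw [H18.liftPerm_mul_shiftPerm, mul_inv_cancel_right]
    refine Finset.sum_eq_zero fun a ha => ?_
    have : f₀ ((t : Perm A)⁻¹ a) = 0 := by
      by_contra h
      by_cases hax : (t : Perm A)⁻¹ a = x
      · obtain ⟨m, hm, hma⟩ := (hmemO a).1 ha
        have h1 : m⁻¹ * t ∈ S := by
          have htx : (t : Perm A) x = a := by rw [← hax]; simp
          rw [hmemS, Subgroup.coe_mul, Perm.mul_apply, htx, ← hma]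
          simp
        have h2 := hSM h1
        exact ht (by simpa using M.mul_mem hm h2)
      · have h1 := hfix _ hax h
        have h2 : (t : Perm A)⁻¹ a = a := by
          have := h1 t
          simpa using this.symm
        exact hmoved a ha (h2 ▸ h1)
    simpa [H18.shiftPerm, Perm.inv_def] using this
  intro h
  apply zeta_one_ne (p := p)
  have h' : zeta p (Multiplicative.ofAdd
      (val (H18.liftPerm (t : Perm A) * H18.shiftPerm f₀ * (H18.liftPerm (t : Perm A))⁻¹))) =
      zeta p (Multiplicative.ofAdd (val ((h₀ : E) : Perm (A × ZMod p)))) := h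
  rw [e1, e2] at h'
  exact h'.symm

section Sylow

variable {p : ℕ} [Fact p.Prime]

theorem card_sylow_perm (w : ℕ) (T : Sylow p (Perm (Fin w))) :
    Nat.card (T : Subgroup (Perm (Fin w))) = p ^ (Nat.factorial w).factorization p := by
  rw [T.card_eq_multiplicity, Nat.card_perm, Nat.card_fin]

theorem card_wreath_sylow (w : ℕ) (T : Sylow p (Perm (Fin w))) :
    Nat.card (H18.wreathSubgroup p (T : Subgroup (Perm (Fin w)))) =
      p ^ (Nat.card (Perm (Fin w × ZMod p))).factorization p := by
  rw [H18.card_wreathSubgroup, card_sylow_perm, Nat.card_perm, Nat.card_prod, Nat.card_fin,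
    Nat.card_zmod, ← pow_add, Fintype.card_fin]
  congr 1
  rw [Nat.factorization_def _ Fact.out, Nat.factorization_def _ Fact.out, mul_comm w p,
    padicValNat_factorial_mul]
  omega

theorem exists_moved {w : ℕ} (hw : p ≤ w) (T : Sylow p (Perm (Fin w))) :
    ∃ (x : Fin w) (t : (T : Subgroup (Perm (Fin w)))), (t : Perm (Fin w)) x ≠ x := by
  by_contra h
  simp only [not_exists, not_not] at h
  have h1 : (T : Subgroup (Perm (Fin w))) = ⊥ :=
    (Subgroup.eq_bot_iff_forall _).2 fun t ht => Equiv.ext fun x => h x ⟨t, ht⟩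
  refine T.ne_bot_of_dvd_card ?_ h1
  rw [Nat.card_perm, Nat.card_fin]
  exact Nat.dvd_factorial (Nat.Prime.pos Fact.out) hw

theorem sign_eq_one_of_isPGroup {β : Type*} [Fintype β] [DecidableEq β] (hp2 : p ≠ 2)
    {W : Subgroup (Perm β)} (hW : IsPGroup p W) {g : Perm β} (hg : g ∈ W) : Perm.sign g = 1 := by
  obtain ⟨k, hk⟩ := hW ⟨g, hg⟩
  have h1 : Perm.sign g ^ p ^ k = 1 := by
    rw [← map_pow, show g ^ p ^ k = 1 from congrArg Subtype.val hk, map_one]
  rcases Int.units_eq_one_or (Perm.sign g) with h | h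
  · exact h
  · rw [h, (((Fact.out : p.Prime).odd_of_ne_two hp2).pow).neg_one_pow] at h1
    exact absurd h1 (by decide)

theorem sign_liftPerm {A : Type*} [Fintype A] [DecidableEq A] (h : Perm A) :
    Perm.sign (H18.liftPerm h : Perm (A × ZMod p)) = Perm.sign h ^ p := by
  have hh : (H18.liftPerm h : Perm (A × ZMod p)) = prodCongrLeft fun _ : ZMod p => h := rfl
  rw [hh, Perm.sign_prodCongrLeft, Finset.prod_const, Finset.card_univ, ZMod.card]

theorem shiftPerm_single_two {A : Type*} [DecidableEq A] (a : A) :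
    H18.shiftPerm (Pi.single a (1 : ZMod 2)) = Equiv.swap (a, (0 : ZMod 2)) (a, 1) := by
  refine Equiv.ext fun w => ?_
  obtain ⟨b, x⟩ := w
  by_cases hb : b = a
  · subst hb
    rcases H18.zmod_two_cases x with rfl | rfl
    · simp [H18.shiftPerm, Equiv.swap_apply_left]
    · have h11 : (1 : ZMod 2) + 1 = 0 := rfl
      simp [H18.shiftPerm, Equiv.swap_apply_right, h11]
  · simp [H18.shiftPerm, hb, Equiv.swap_apply_of_ne_of_ne]

/-- The wreath Sylow subgroup of the whole symmetric group. -/
theorem hasDeg_wreath_sylow {m : ℕ} (hm : p ≤ m) (T : Sylow p (Perm (Fin m))) :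
    HasDeg p (H18.wreathSubgroup p (T : Subgroup (Perm (Fin m)))) := by
  classical
  obtain ⟨x, t₀, hx⟩ := exists_moved hm T
  refine hasDeg_wreath T.2 _ le_rfl (fun t ht => ⟨0, t, ht, ?_⟩) hx (Pi.single x 1)
    ⟨_, 1, one_mem _, by rw [H18.liftPerm_one, mul_one]⟩ (by simp) fun a ha h => ?_
  · rw [H18.shiftPerm_zero, one_mul]
  · exact absurd (Pi.single_eq_of_ne ha _) h

/-- The even part of the wreath product has a character of degree `p`. -/
theorem hasDeg_even {w : ℕ} (hw : p ≤ w) (h2 : p = 2 → 3 ≤ w) (T : Sylow p (Perm (Fin w))) :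
    HasDeg p ↥(H18.wreathSubgroup p (T : Subgroup (Perm (Fin w))) ⊓
      alternatingGroup (Fin w × ZMod p)) := by
  classical
  set W := H18.wreathSubgroup p (T : Subgroup (Perm (Fin w))) with hW
  have hWp : IsPGroup p W := IsPGroup.of_card (card_wreath_sylow w T)
  have hliftW : ∀ t ∈ (T : Subgroup (Perm (Fin w))), H18.liftPerm t ∈ W := fun t ht =>
    ⟨0, t, ht, by rw [H18.shiftPerm_zero, one_mul]⟩
  have hshiftW : ∀ f : Fin w → ZMod p, H18.shiftPerm f ∈ W := fun f =>
    ⟨f, 1, one_mem _, by rw [H18.liftPerm_one, mul_one]⟩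
  have hlift : ∀ t ∈ (T : Subgroup (Perm (Fin w))),
      H18.liftPerm t ∈ W ⊓ alternatingGroup (Fin w × ZMod p) := fun t ht => by
    refine ⟨hliftW t ht, Perm.mem_alternatingGroup.2 ?_⟩
    by_cases hp2 : p = 2
    · rw [sign_liftPerm, hp2, Int.units_pow_two]
    · exact sign_eq_one_of_isPGroup hp2 hWp (hliftW t ht)
  obtain ⟨x, t₀, hx⟩ := exists_moved hw T
  by_cases hp2 : p = 2
  · subst hp2
    by_cases hz : ∃ z, ∀ t : (T : Subgroup (Perm (Fin w))), (t : Perm (Fin w)) z = z
    · obtain ⟨z, hz⟩ := hz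
      have hzx : z ≠ x := fun h => hx (h ▸ hz t₀)
      refine hasDeg_wreath T.2 _ inf_le_left hlift hx (Pi.single x 1 + Pi.single z 1)
        ⟨hshiftW _, Perm.mem_alternatingGroup.2 ?_⟩ (by simp [hzx.symm]) fun a ha h => ?_
      · rw [← H18.shiftPerm_mul, map_mul, shiftPerm_single_two, shiftPerm_single_two,
          Perm.sign_swap (by simp), Perm.sign_swap (by simp)]
        rfl
      · obtain rfl : a = z := by
          by_contra h'
          simp [Pi.single_eq_of_ne ha, Pi.single_eq_of_ne h'] at h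
        exact hz
    · -- no fixed point: use the quotient
      have heven : 2 ∣ w := by
        have h := T.2.card_modEq_card_fixedPoints (α := Fin w)
        rw [Nat.card_fin] at h
        haveI : IsEmpty (MulAction.fixedPoints (T : Subgroup (Perm (Fin w))) (Fin w)) :=
          ⟨fun z => hz ⟨z.1, fun t => z.2 t⟩⟩
        rw [Nat.card_of_isEmpty] at h
        exact Nat.modEq_zero_iff_dvd.1 h
      obtain ⟨m, rfl⟩ := heven
      have hm : 2 ≤ m := by have := h2 rfl; omega
      obtain ⟨T'⟩ := (inferInstance : Nonempty (Sylow 2 (Perm (Fin m))))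
      have e₀ : Fin m × ZMod 2 ≃ Fin (2 * m) :=
        Fintype.equivOfCardEq (by simp [mul_comm])
      have hV : HasDeg 2 (T : Subgroup (Perm (Fin (2 * m)))) := by
        set V := (H18.wreathSubgroup 2 (T' : Subgroup (Perm (Fin m)))).map
          (e₀.permCongrHom.toMonoidHom) with hV
        have hc : Nat.card V = 2 ^ (Nat.card (Perm (Fin (2 * m)))).factorization 2 := by
          rw [hV, Subgroup.card_map_of_injective e₀.permCongrHom.injective, card_wreath_sylow,
            Nat.card_congr e₀.permCongr]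
        refine HasDeg.of_mulEquiv ?_ ((Sylow.ofCard V hc).equiv T).symm
        exact (hasDeg_wreath_sylow hm T').of_mulEquiv
          (Subgroup.equivMapOfInjective _ _ e₀.permCongrHom.injective).symm
      exact hV.of_surjective (proj_surjective _ inf_le_left hlift)
  · refine hasDeg_wreath T.2 _ inf_le_left hlift hx (Pi.single x 1)
      ⟨hshiftW _, Perm.mem_alternatingGroup.2 (sign_eq_one_of_isPGroup hp2 hWp (hshiftW _))⟩
      (by simp) fun a ha h => absurd (Pi.single_eq_of_ne ha _) h

theorem card_even {w : ℕ} (hw : p ≤ w) (T : Sylow p (Perm (Fin w))) :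
    Nat.card ↥(H18.wreathSubgroup p (T : Subgroup (Perm (Fin w))) ⊓
      alternatingGroup (Fin w × ZMod p)) =
      p ^ (Nat.card ↥(alternatingGroup (Fin w × ZMod p))).factorization p := by
  classical
  have hp : p.Prime := Fact.out
  set W := H18.wreathSubgroup p (T : Subgroup (Perm (Fin w))) with hW
  set E := W ⊓ alternatingGroup (Fin w × ZMod p) with hE
  set v := (Nat.card (Perm (Fin w × ZMod p))).factorization p with hv
  haveI : Nontrivial (Fin w × ZMod p) := Fintype.one_lt_card_iff_nontrivial.1 (by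
    simp only [Fintype.card_prod, Fintype.card_fin, ZMod.card]
    exact lt_of_lt_of_le hp.one_lt (Nat.le_mul_of_pos_left p (by linarith [hp.pos])))
  have hidx : (alternatingGroup (Fin w × ZMod p)).index = 2 := alternatingGroup.index_eq_two
  have hWc : Nat.card W = p ^ v := card_wreath_sylow w T
  have hA : Nat.card (Perm (Fin w × ZMod p)) =
      Nat.card ↥(alternatingGroup (Fin w × ZMod p)) * 2 := by
    rw [← hidx, Subgroup.card_mul_index]
  have hEp : IsPGroup p E := (IsPGroup.of_card hWc).to_le inf_le_left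
  obtain ⟨e, he⟩ := IsPGroup.iff_card.1 hEp
  rw [he]
  congr 1
  have h1 : e ≤ (Nat.card ↥(alternatingGroup (Fin w × ZMod p))).factorization p :=
    (hp.pow_dvd_iff_le_factorization Nat.card_pos.ne').1 (he ▸ Subgroup.card_dvd_of_le inf_le_right)
  have h3 : (Nat.card ↥(alternatingGroup (Fin w × ZMod p))).factorization p +
      (if p = 2 then 1 else 0) = v := by
    rw [hv, hA, Nat.factorization_mul Nat.card_pos.ne' (by omega), Finsupp.add_apply]
    congr 1
    by_cases h : p = 2
    · subst h; simp [Nat.prime_two.factorization_self]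
    · rw [if_neg h, Nat.factorization_eq_zero_of_not_dvd]
      exact fun hd => h ((Nat.prime_dvd_prime_iff_eq hp Nat.prime_two).1 hd)
  have h4 : p ^ v ∣ p ^ e * 2 := by
    rw [← hWc, ← he, ← Subgroup.relIndex_bot_left W,
      ← Subgroup.relIndex_mul_relIndex ⊥ E W bot_le inf_le_left, Subgroup.relIndex_bot_left]
    refine mul_dvd_mul_left _ ?_
    rw [hE, inf_comm, Subgroup.inf_relIndex_right, ← hidx]
    exact Subgroup.relIndex_dvd_index_of_normal _ _
  have h5 : v ≤ e + if p = 2 then 1 else 0 := by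
    by_cases h : p = 2
    · subst h
      rw [← pow_succ] at h4
      rw [if_pos rfl]
      exact (Nat.pow_dvd_pow_iff_le_right (by norm_num)).1 h4
    · rw [if_neg h, add_zero]
      refine (Nat.pow_dvd_pow_iff_le_right hp.one_lt).1 (Nat.Coprime.dvd_of_dvd_mul_right ?_ h4)
      exact Nat.Coprime.pow_left _ ((Nat.coprime_primes hp Nat.prime_two).2 h)
  omega

/-- **A Sylow `p`-subgroup of `A_{pw}` has an irreducible character of degree `p`.** -/
theorem exists_degree_p {p w : ℕ} [Fact p.Prime] (hw : p ≤ w) (h2 : p = 2 → 3 ≤ w)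
    (P : Sylow p ↥(alternatingGroup (Fin w × Fin p))) :
    ∃ φ : Cfsg.IrrCharacter ↥(P : Subgroup ↥(alternatingGroup (Fin w × Fin p))),
      Cfsg.charDegree (φ : ↥(P : Subgroup ↥(alternatingGroup (Fin w × Fin p))) → ℂ) = p := by
  classical
  haveI : NeZero p := ⟨(Fact.out : p.Prime).ne_zero⟩
  obtain ⟨T⟩ := (inferInstance : Nonempty (Sylow p (Perm (Fin w))))
  let e : Fin w × Fin p ≃ Fin w × ZMod p :=
    Equiv.prodCongr (Equiv.refl _) (ZMod.finEquiv p).toEquiv
  let Φ : alternatingGroup (Fin w × Fin p) →* Perm (Fin w × ZMod p) :=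
    e.permCongrHom.toMonoidHom.comp (alternatingGroup (Fin w × Fin p)).subtype
  have hΦ : Function.Injective Φ := e.permCongrHom.injective.comp Subtype.val_injective
  have hrange : ∀ g, g ∈ alternatingGroup (Fin w × ZMod p) → g ∈ Φ.range := fun g hg => by
    refine ⟨⟨e.permCongrHom.symm g, Perm.mem_alternatingGroup.2 ?_⟩,
      e.permCongrHom.apply_symm_apply g⟩
    have h := Perm.sign_permCongr e (e.permCongrHom.symm g)
    rw [show e.permCongr (e.permCongrHom.symm g) = g from e.permCongrHom.apply_symm_apply g] at h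
    rw [← h]
    exact Perm.mem_alternatingGroup.1 hg
  set E := H18.wreathSubgroup p (T : Subgroup (Perm (Fin w))) ⊓ alternatingGroup (Fin w × ZMod p)
  have hmap : (E.comap Φ).map Φ = E :=
    Subgroup.map_comap_eq_self fun g hg => hrange g hg.2
  have hc : Nat.card (E.comap Φ) =
      p ^ (Nat.card ↥(alternatingGroup (Fin w × Fin p))).factorization p := by
    rw [Nat.card_congr (Subgroup.equivMapOfInjective (E.comap Φ) Φ hΦ).toEquiv, hmap, card_even hw T]
    congr 2
    rw [← Nat.card_congr (Φ.ofInjective hΦ).toEquiv.symm]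
    refine congrArg Nat.factorization (Nat.card_congr (Equiv.setCongr (Set.ext fun g => ⟨hrange g, ?_⟩)))
    rintro ⟨a, rfl⟩
    exact Perm.mem_alternatingGroup.2 ((Perm.sign_permCongr e _).trans a.2)
  exact ((hasDeg_even hw h2 T).of_mulEquiv
    ((Subgroup.equivMapOfInjective _ Φ hΦ).trans (MulEquiv.subgroupCongr hmap))).of_mulEquiv
    ((Sylow.ofCard _ hc).equiv P).symm

end Sylow

end H25.AltHeight
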